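import Groth.Agent.Topos.H566.HomotopyLift

/-!
# Two morphisms between locally fillable simplicial objects become homotopic
-/

set_option autoImplicit false

universe u v w

open CategoryTheory CategoryTheory.Limits Opposite Simplicial MonoidalCategory

namespace Groth.Agent.Topos.H566.Final

open Groth.Agent.CohtopB Groth.Agent.Topos.H566.SecFill Groth.Agent.Topos.H566.Repr
open Groth.Agent.Topos.H566.PathObj Groth.Agent.Topos.H566.PathRepr Groth.Agent.Topos.H566.LocExt
open Groth.Agent.Topos.H566.PathFill Groth.Agent.Topos.H566.HomotopyLift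

section general

variable {A : Type v} [Category.{w} A] {K L : Aᵒᵖ ⥤ SSet.{u}} (a b : K ⟶ L)

/-- The projection from the path object. -/
def πS : PthS a b ⟶ K where
  app V := (toPair (𝟙 ((PthS a b).obj V))).x
  naturality _ _ _ := rfl

/-- The universal homotopy. -/
def HS (V : Aᵒᵖ) : SSet.Homotopy ((πS a b ≫ a).app V) ((πS a b ≫ b).app V) where
  h := (toPair (𝟙 ((PthS a b).obj V))).H
  h₀ := (toPair (𝟙 ((PthS a b).obj V))).h₀
  h₁ := (toPair (𝟙 ((PthS a b).obj V))).h₁
  rel := by
    ext m ⟨⟨x, hx⟩, t⟩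
    exact hx.elim

lemma HS_naturality {V W : Aᵒᵖ} (p : V ⟶ W) :
    ((PthS a b).map p ▷ Δ[1]) ≫ (HS a b W).h = (HS a b V).h ≫ L.map p := rfl

end general

variable {A : Type u} [SmallCategory A]

theorem locFill_of_iso {J : GrothendieckTopology A} {F F' : Aᵒᵖ ⥤ SSet.{u}} (e : F ≅ F') (h : LocFill J F) :
    LocFill J F' := by
  intro n V φ
  refine (h n V (φ ≫ e.inv.app (op V))).mono fun W g hg => ?_
  obtain ⟨ψ, hψ⟩ := hg
  refine ⟨ψ ≫ e.hom.app (op W), ?_⟩
  rw [reassoc_of% hψ, e.hom.naturality, Iso.inv_hom_id_app_assoc]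

section

variable {K L : SimplicialObject (FormalCoproduct.{u} A)} (a b : K ⟶ L)

/-- The simplicial object in presheaves. -/
abbrev PF : SimplicialObject (Aᵒᵖ ⥤ Type u) := PthF (secM a) (secM b)

/-- The projection. -/
def πF : PF a b ⟶ ((SimplicialObject.whiskering _ _).obj (HypSec.secFunctor A)).obj K :=
  (flipFunctor _ _ _).map (πS (secM a) (secM b))

/-- The universal homotopy. -/
noncomputable def HF : SimplicialObject.Homotopy
    (πF a b ≫ ((SimplicialObject.whiskering _ _).obj (HypSec.secFunctor A)).map a)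
    (πF a b ≫ ((SimplicialObject.whiskering _ _).obj (HypSec.secFunctor A)).map b) :=
  pointwise _ _ (fun V => HS (secM a) (secM b) V) (fun p => HS_naturality (secM a) (secM b) p)

variable [HasFiniteLimits (FormalCoproduct.{u} A)]

theorem essImage_PF (n : SimplexCategoryᵒᵖ) : (HypSec.secFunctor A).essImage ((PF a b).obj n) :=
  essImage_Pth a b (SSet.stdSimplex.obj n.unop)

theorem exists_homotopy {J : GrothendieckTopology A} (hK : LocFill J (secS K)) (hL : LocFill J (secS L)) :
    ∃ (M : SimplicialObject (FormalCoproduct.{u} A)) (c : M ⟶ K), LocFill J (secS M) ∧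
      Nonempty (SimplicialObject.Homotopy (c ≫ a) (c ≫ b)) := by
  let M : SimplicialObject (FormalCoproduct.{u} A) :=
    Functor.essImage.liftFunctor (PF a b) (HypSec.secFunctor A) (essImage_PF a b)
  let e : ((SimplicialObject.whiskering _ _).obj (HypSec.secFunctor A)).obj M ≅ PF a b :=
    Functor.essImage.liftFunctorCompIso (PF a b) (HypSec.secFunctor A) (essImage_PF a b)
  let c : M ⟶ K := ((Functor.whiskeringRight _ _ _).obj (HypSec.secFunctor A)).preimage (e.hom ≫ πF a b)
  have hc : ((SimplicialObject.whiskering _ _).obj (HypSec.secFunctor A)).map c = e.hom ≫ πF a b :=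
    ((Functor.whiskeringRight _ _ _).obj (HypSec.secFunctor A)).map_preimage _
  refine ⟨M, c, ?_, ?_⟩
  · have h := locFill_PthS (secM a) (secM b) hK hL
    exact locFill_of_iso ((flipFunctor _ _ _).mapIso e.symm) h
  · refine ⟨reflect (HypSec.secFunctor A) _ _ ?_⟩
    rw [Functor.map_comp, Functor.map_comp, hc, Category.assoc, Category.assoc]
    exact (HF a b).precomp e.hom

end

end Groth.Agent.Topos.H566.Final
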