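import Groth.Agent.Topos.H566.SecFill

/-!
# The product of two hypercoverings
-/

set_option autoImplicit false

universe u v w

open CategoryTheory CategoryTheory.Limits Opposite Simplicial

namespace Groth.Agent.Topos.H566.ProdHyp

open Groth.Agent.CohtopB Groth.Agent.Topos.H566.SecFill Groth.Agent.Topos.H566.LocExt
open Groth.Agent.CohtopB.HyperTens (Compat fillSieve)
open Groth.Agent.CohtopB.HyperExist (homSieve)

variable {A : Type u} [SmallCategory A] [HasFiniteLimits (FormalCoproduct.{u} A)]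

theorem exists_prod {J : GrothendieckTopology A} {K L : SimplicialObject (FormalCoproduct.{u} A)}
    (hK : LocFill J (secS K)) (hL : LocFill J (secS L)) :
    ∃ (M : SimplicialObject (FormalCoproduct.{u} A)) (_ : M ⟶ K) (_ : M ⟶ L), LocFill J (secS M) := by
  rw [← locFill_iff] at hK hL
  have hlim : ∀ m : SimplexCategoryᵒᵖ, IsLimit (BinaryFan.mk ((prod.fst : K ⨯ L ⟶ K).app m)
      ((prod.snd : K ⨯ L ⟶ L).app m)) := fun m =>
    mapIsLimitOfPreservesOfIsLimit ((evaluation _ _).obj m) _ _ (prodIsProd K L)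
  refine ⟨K ⨯ L, prod.fst, prod.snd, ?_⟩
  rw [← locFill_iff]
  refine ⟨fun T => ?_, fun n T y hy => ?_⟩
  · refine J.superset_covering ?_ (J.intersection_covering (hK.1 T) (hL.1 T))
    rintro T' g ⟨⟨x⟩, ⟨y⟩⟩
    exact ⟨(BinaryFan.IsLimit.lift' (hlim _) x y).1⟩
  · have h1 : Compat K (fun i => y i ≫ (prod.fst : K ⨯ L ⟶ K).app _) := by
      intro i j m hm β β' h
      rw [Category.assoc, Category.assoc, ← NatTrans.naturality, ← NatTrans.naturality, ← Category.assoc,
        ← Category.assoc, hy i j m hm β β' h]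
    have h2 : Compat L (fun i => y i ≫ (prod.snd : K ⨯ L ⟶ L).app _) := by
      intro i j m hm β β' h
      rw [Category.assoc, Category.assoc, ← NatTrans.naturality, ← NatTrans.naturality, ← Category.assoc,
        ← Category.assoc, hy i j m hm β β' h]
    refine J.superset_covering ?_ (J.intersection_covering (hK.2 n T _ h1) (hL.2 n T _ h2))
    rintro T' g ⟨⟨x₁, hx₁⟩, ⟨x₂, hx₂⟩⟩
    obtain ⟨x, hx, hx'⟩ := BinaryFan.IsLimit.lift' (hlim _) x₁ x₂
    refine ⟨x, fun i => ?_⟩
    refine BinaryFan.IsLimit.hom_ext (hlim _) ?_ ?_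
    · change (x ≫ (K ⨯ L).map _) ≫ (prod.fst : K ⨯ L ⟶ K).app _ = (_ ≫ _) ≫ (prod.fst : K ⨯ L ⟶ K).app _
      rw [Category.assoc, NatTrans.naturality, Category.assoc, ← hx₁ i, ← Category.assoc]
      congr 1
    · change (x ≫ (K ⨯ L).map _) ≫ (prod.snd : K ⨯ L ⟶ L).app _ = (_ ≫ _) ≫ (prod.snd : K ⨯ L ⟶ L).app _
      rw [Category.assoc, NatTrans.naturality, Category.assoc, ← hx₂ i, ← Category.assoc]
      congr 1

end Groth.Agent.Topos.H566.ProdHyp
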