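import Groth.Agent.Topos.H566.SecFill
import Mathlib.CategoryTheory.Limits.FullSubcategory
import Mathlib.CategoryTheory.Limits.Yoneda
import Mathlib.CategoryTheory.Limits.FunctorCategory.Basic
import Mathlib.AlgebraicTopology.SimplicialSet.NonsingularColimit

/-!
# Coproducts of representables are closed under finite limits

The functor `secFunctor A : FormalCoproduct A ⥤ Aᵒᵖ ⥤ Type u` is fully faithful and preserves limits, hence
its essential image is closed under the limits which exist in `FormalCoproduct A`.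
-/

set_option autoImplicit false

universe u v w

open CategoryTheory CategoryTheory.Limits Opposite Simplicial

namespace Groth.Agent.Topos.H566.Repr

open Groth.Agent.CohtopB Groth.Agent.Topos.H566.SecFill

variable {A : Type u} [SmallCategory A]

instance : (HypSec.secFunctor A).Faithful where
  map_injective {X Y f g} h := by
    refine (FormalCoproduct.hom_ext_iff' _ _).2 fun i => ?_
    have h1 : (FormalCoproduct.Hom.fromIncl i (𝟙 (X.obj i)) : (FormalCoproduct.incl A).obj (X.obj i) ⟶ X) ≫ f =
      (FormalCoproduct.Hom.fromIncl i (𝟙 (X.obj i)) : (FormalCoproduct.incl A).obj (X.obj i) ⟶ X) ≫ g :=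
      ConcreteCategory.congr_hom (NatTrans.congr_app h (op (X.obj i))) _
    obtain ⟨h2, h3⟩ := (FormalCoproduct.hom_ext_iff' _ _).1 h1 PUnit.unit
    refine ⟨h2, ?_⟩
    have h4 : (𝟙 (X.obj i) ≫ f.φ i) ≫ eqToHom (congrArg Y.obj h2) = 𝟙 (X.obj i) ≫ g.φ i := h3
    rw [Category.id_comp, Category.id_comp] at h4
    exact h4

instance : (HypSec.secFunctor A).Full where
  map_surjective {X Y} α := by
    let z : ∀ i : X.I, (FormalCoproduct.incl A).obj (X.obj i) ⟶ Y := fun i =>
      α.app (op (X.obj i)) (FormalCoproduct.Hom.fromIncl i (𝟙 (X.obj i)) :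
        (FormalCoproduct.incl A).obj (X.obj i) ⟶ X)
    refine ⟨⟨fun i => (z i).f PUnit.unit, fun i => (z i).φ PUnit.unit⟩, ?_⟩
    apply NatTrans.ext
    funext V
    obtain ⟨V⟩ := V
    ext x
    change (FormalCoproduct.incl A).obj V ⟶ X at x
    have h1 : x = (FormalCoproduct.incl A).map (x.φ PUnit.unit) ≫
        (FormalCoproduct.Hom.fromIncl (x.f PUnit.unit) (𝟙 (X.obj (x.f PUnit.unit)))) := by
      refine (FormalCoproduct.hom_ext_iff' _ _).2 fun i => ⟨rfl, ?_⟩
      change x.φ PUnit.unit ≫ 𝟙 _ = x.φ PUnit.unit ≫ 𝟙 _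
      rfl
    have h2 : α.app (op V) x = (FormalCoproduct.incl A).map (x.φ PUnit.unit) ≫ z (x.f PUnit.unit) := by
      have h3 := ConcreteCategory.congr_hom (α.naturality (x.φ PUnit.unit).op)
        (FormalCoproduct.Hom.fromIncl (x.f PUnit.unit) (𝟙 (X.obj (x.f PUnit.unit))))
      exact Eq.trans (congrArg (fun t : (FormalCoproduct.incl A).obj V ⟶ X => α.app (op V) t) h1) h3
    exact h2.symm

instance : PreservesLimitsOfSize.{w, v} (HypSec.secFunctor A) := by
  refine preservesLimits_of_evaluation _ fun V => ?_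
  change PreservesLimitsOfSize.{w, v} (coyoneda.obj (op ((FormalCoproduct.incl.{u} A).obj V.unop)))
  infer_instance

section

variable (L : SimplicialObject (FormalCoproduct.{u} A))

/-- The presheaves `V ↦ Hom (T, L(V))`. -/
abbrev homPsh : SSet.{u}ᵒᵖ ⥤ (Aᵒᵖ ⥤ Type u) :=
  coyoneda ⋙ (Functor.whiskeringLeft _ _ _).obj (secS L)

/-- Yoneda. -/
def homPshIso (n : SimplexCategory) :
    (homPsh L).obj (op (SSet.stdSimplex.obj n)) ≅ (HypSec.secFunctor A).obj (L.obj (op n)) :=
  NatIso.ofComponents (fun V => (SSet.yonedaEquiv (X := (secS L).obj V) (n := n)).toIso) (by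
    intro V W g
    ext x
    rfl)

theorem essImage_homPsh [HasFiniteLimits (FormalCoproduct.{u} A)] (T : SSet.{u}) [T.Nonsingular] [T.Finite] :
    (HypSec.secFunctor A).essImage ((homPsh L).obj (op T)) := by
  have : Fintype T.N := Fintype.ofFinite _
  have h := isLimitOfPreserves (homPsh L) T.isColimitCoconeN'.op
  exact ObjectProperty.prop_of_isLimit _ h fun j => ⟨_, ⟨(homPshIso L _).symm⟩⟩

end

end Groth.Agent.Topos.H566.Repr
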