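import Groth.Agent.Topos.H566.PathObj
import Groth.Agent.Topos.H566.Repr
import Mathlib.CategoryTheory.Limits.Shapes.FunctorToTypes

/-!
# The path object is degreewise a coproduct of representables
-/

set_option autoImplicit false

universe u v w

open CategoryTheory CategoryTheory.Limits Opposite Simplicial MonoidalCategory

namespace Groth.Agent.Topos.H566.PathRepr

open Groth.Agent.CohtopB Groth.Agent.Topos.H566.SecFill Groth.Agent.Topos.H566.Repr
open Groth.Agent.Topos.H566.PathObj

section fork

variable {E : Type v} [Category.{w} E] {P Q R : E ⥤ Type u}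

/-- An explicit equalizer of functors to types. -/
noncomputable def isLimitFork (i : P ⟶ Q) (f g : Q ⟶ R) (hw : i ≫ f = i ≫ g)
    (hinj : ∀ V, Function.Injective (i.app V))
    (hsurj : ∀ V (q : Q.obj V), f.app V q = g.app V q → ∃ p, i.app V p = q) :
    IsLimit (Fork.ofι i hw) := by
  choose c hc using hsurj
  refine Fork.IsLimit.mk' _ fun s => ?_
  have hs : ∀ V (x : s.pt.obj V), f.app V (s.ι.app V x) = g.app V (s.ι.app V x) := fun V x =>
    ConcreteCategory.congr_hom (NatTrans.congr_app s.condition V) x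
  refine ⟨{ app := fun V => ↾fun x => c V (s.ι.app V x) (hs V x), naturality := ?_ }, ?_, ?_⟩
  · intro V W g'
    ext x
    apply hinj W
    change i.app W (c W (s.ι.app W (s.pt.map g' x)) _) = i.app W (P.map g' (c V (s.ι.app V x) _))
    rw [hc]
    have h1 : i.app W (P.map g' (c V (s.ι.app V x) (hs V x))) = Q.map g' (i.app V (c V (s.ι.app V x) (hs V x))) :=
      ConcreteCategory.congr_hom (i.naturality g') _
    rw [h1, hc]
    exact ConcreteCategory.congr_hom (s.ι.naturality g') x
  · ext V x
    exact hc V _ _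
  · intro m hm
    ext V x
    apply hinj V
    refine Eq.trans ?_ (hc V _ _).symm
    exact ConcreteCategory.congr_hom (NatTrans.congr_app hm V) x

end fork

variable {A : Type u} [SmallCategory A]

/-- Functoriality of the simplicial presheaf of sections. -/
abbrev secM {K L : SimplicialObject (FormalCoproduct.{u} A)} (a : K ⟶ L) : secS K ⟶ secS L :=
  (flipFunctor _ _ _).map (Functor.whiskerRight a (HypSec.secFunctor A))

theorem essImage_prod [HasFiniteLimits (FormalCoproduct.{u} A)] {P Q : Aᵒᵖ ⥤ Type u}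
    (hP : (HypSec.secFunctor A).essImage P) (hQ : (HypSec.secFunctor A).essImage Q) :
    (HypSec.secFunctor A).essImage (FunctorToTypes.prod P Q) :=
  ObjectProperty.prop_of_isLimit _ (FunctorToTypes.binaryProductLimit P Q) (by
    rintro ⟨_ | _⟩
    · exact hP
    · exact hQ)

variable {K L : SimplicialObject (FormalCoproduct.{u} A)} (a b : K ⟶ L)

theorem essImage_Pth [HasFiniteLimits (FormalCoproduct.{u} A)] (T : SSet.{u}) [T.Nonsingular] [T.Finite]
    [(T ⊗ Δ[1] : SSet.{u}).Nonsingular] :
    (HypSec.secFunctor A).essImage ((Pth (secM a) (secM b)).obj (op T)) := by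
  let Q : Aᵒᵖ ⥤ Type u := FunctorToTypes.prod ((homPsh K).obj (op T)) ((homPsh L).obj (op (T ⊗ Δ[1])))
  let R : Aᵒᵖ ⥤ Type u := FunctorToTypes.prod ((homPsh L).obj (op T)) ((homPsh L).obj (op T))
  let i : (Pth (secM a) (secM b)).obj (op T) ⟶ Q :=
    { app := fun V => ↾fun p => (PD.x p, PD.H p)
      naturality := fun V W g => by
        ext p <;> rfl }
  let f : Q ⟶ R :=
    { app := fun V => ↾fun q => ((SSet.ι₀ ≫ (q.2 : T ⊗ Δ[1] ⟶ (secS L).obj V) : T ⟶ (secS L).obj V),
        (SSet.ι₁ ≫ (q.2 : T ⊗ Δ[1] ⟶ (secS L).obj V) : T ⟶ (secS L).obj V))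
      naturality := fun V W g => by
        ext p <;> rfl }
  let g : Q ⟶ R :=
    { app := fun V => ↾fun q => (((q.1 : T ⟶ (secS K).obj V) ≫ (secM a).app V : T ⟶ (secS L).obj V),
        ((q.1 : T ⟶ (secS K).obj V) ≫ (secM b).app V : T ⟶ (secS L).obj V))
      naturality := fun V W g => by
        ext p
        · change ((p.1 : T ⟶ (secS K).obj V) ≫ (secS K).map g) ≫ (secM a).app W =
            ((p.1 : T ⟶ (secS K).obj V) ≫ (secM a).app V) ≫ (secS L).map g
          rw [Category.assoc, Category.assoc, (secM a).naturality]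
        · change ((p.1 : T ⟶ (secS K).obj V) ≫ (secS K).map g) ≫ (secM b).app W =
            ((p.1 : T ⟶ (secS K).obj V) ≫ (secM b).app V) ≫ (secS L).map g
          rw [Category.assoc, Category.assoc, (secM b).naturality] }
  have hw : i ≫ f = i ≫ g := by
    ext V p
    · exact PD.h₀ p
    · exact PD.h₁ p
  have hl : IsLimit (Fork.ofι i hw) := isLimitFork i f g hw (by
    intro V p p' h
    exact PD.ext (congrArg Prod.fst h) (congrArg Prod.snd h)) (by
    intro V q hq
    exact ⟨⟨q.1, q.2, congrArg Prod.fst hq, congrArg Prod.snd hq⟩, rfl⟩)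
  refine ObjectProperty.prop_of_isLimit _ hl ?_
  rintro (_ | _)
  · exact essImage_prod (essImage_homPsh K T) (essImage_homPsh L (T ⊗ Δ[1]))
  · exact essImage_prod (essImage_homPsh L T) (essImage_homPsh L T)

end Groth.Agent.Topos.H566.PathRepr
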