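import Groth.Agent.Topos.H566.PathFill
import Groth.Agent.Topos.H566.PathRepr

/-!
# Combinatorial homotopies from natural families of homotopies of simplicial sets
-/

set_option autoImplicit false

universe u v w v₁ u₁ v₂ u₂

open CategoryTheory CategoryTheory.Limits Opposite Simplicial MonoidalCategory

namespace Groth.Agent.Topos.H566.HomotopyLift

section reflect

variable {D : Type u₁} [Category.{v₁} D] {E : Type u₂} [Category.{v₂} E] (F : D ⥤ E) [F.Full] [F.Faithful]
  {X Y : SimplicialObject D} (f g : X ⟶ Y)

variable {f g} in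
/-- auxiliary -/
def hh (H : SimplicialObject.Homotopy
    (((SimplicialObject.whiskering D E).obj F).map f) (((SimplicialObject.whiskering D E).obj F).map g))
    {n : ℕ} (i : Fin (n + 1)) : F.obj (X _⦋n⦌) ⟶ F.obj (Y _⦋n + 1⦌) := H.h i

/-- Fully faithful functors reflect combinatorial homotopies. -/
noncomputable def reflect (H : SimplicialObject.Homotopy
    (((SimplicialObject.whiskering D E).obj F).map f) (((SimplicialObject.whiskering D E).obj F).map g)) :
    SimplicialObject.Homotopy f g where
  h i := F.preimage (hh F H i)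
  h_zero_comp_δ_zero n := F.map_injective (by
    rw [F.map_comp, F.map_preimage]; exact H.h_zero_comp_δ_zero n)
  h_last_comp_δ_last n := F.map_injective (by
    rw [F.map_comp, F.map_preimage]; exact H.h_last_comp_δ_last n)
  h_succ_comp_δ_castSucc_of_lt i j hij := F.map_injective (by
    rw [F.map_comp, F.map_comp, F.map_preimage, F.map_preimage]
    exact H.h_succ_comp_δ_castSucc_of_lt i j hij)
  h_succ_comp_δ_castSucc_succ j := F.map_injective (by
    rw [F.map_comp, F.map_comp, F.map_preimage, F.map_preimage]
    exact H.h_succ_comp_δ_castSucc_succ j)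
  h_castSucc_comp_δ_succ_of_lt i j hij := F.map_injective (by
    rw [F.map_comp, F.map_comp, F.map_preimage, F.map_preimage]
    exact H.h_castSucc_comp_δ_succ_of_lt i j hij)
  h_comp_σ_castSucc_of_le i j hij := F.map_injective (by
    rw [F.map_comp, F.map_comp, F.map_preimage, F.map_preimage]
    exact H.h_comp_σ_castSucc_of_le i j hij)
  h_comp_σ_succ_of_lt i j hij := F.map_injective (by
    rw [F.map_comp, F.map_comp, F.map_preimage, F.map_preimage]
    exact H.h_comp_σ_succ_of_lt i j hij)

end reflect

section pointwise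

variable {B : Type v} [Category.{w} B] {X Y : SimplicialObject (B ⥤ Type u)} (f g : X ⟶ Y)

/-- Natural families of homotopies of simplicial sets define combinatorial homotopies. -/
noncomputable def pointwise
    (H : ∀ V : B, SSet.Homotopy (((flipFunctor _ _ _).map f).app V) (((flipFunctor _ _ _).map g).app V))
    (hH : ∀ {V W : B} (p : V ⟶ W), (X.flip.map p ▷ Δ[1]) ≫ (H W).h = (H V).h ≫ Y.flip.map p) :
    SimplicialObject.Homotopy f g where
  h {n} i :=
    { app := fun V => (H V).toSimplicialObjectHomotopy.h i
      naturality := fun V W p => by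
        ext x
        have h1 := ConcreteCategory.congr_hom (NatTrans.congr_app (hH p) (op ⦋n + 1⦌))
          ((((SSet.yonedaEquiv (X := X.flip.obj V) (n := ⦋n⦌)).symm x ▷ Δ[1]).app (op ⦋n + 1⦌)
            (SSet.prodStdSimplex.nonDegenerateEquiv₁ i).1 : (X.flip.obj V ⊗ Δ[1] : SSet.{u}) _⦋n + 1⦌))
        refine Eq.trans ?_ h1
        change (H W).h.app (op ⦋n + 1⦌)
          (((SSet.yonedaEquiv (X := X.flip.obj W) (n := ⦋n⦌)).symm ((X _⦋n⦌).map p x) ▷ Δ[1]).app (op ⦋n + 1⦌)
            (SSet.prodStdSimplex.nonDegenerateEquiv₁ i).1) = _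
        have h2 : (SSet.yonedaEquiv (X := X.flip.obj W) (n := ⦋n⦌)).symm ((X _⦋n⦌).map p x) =
          (SSet.yonedaEquiv (X := X.flip.obj V) (n := ⦋n⦌)).symm x ≫ X.flip.map p :=
          (SSet.yonedaEquiv_symm_comp (X := X.flip.obj V) (Y := X.flip.obj W) (n := ⦋n⦌) x (X.flip.map p)).symm
        rw [h2]
        rfl }
  h_zero_comp_δ_zero n := by
    apply NatTrans.ext
    funext V
    exact (H V).toSimplicialObjectHomotopy.h_zero_comp_δ_zero n
  h_last_comp_δ_last n := by
    apply NatTrans.ext
    funext V
    exact (H V).toSimplicialObjectHomotopy.h_last_comp_δ_last n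
  h_succ_comp_δ_castSucc_of_lt i j hij := by
    apply NatTrans.ext
    funext V
    exact (H V).toSimplicialObjectHomotopy.h_succ_comp_δ_castSucc_of_lt i j hij
  h_succ_comp_δ_castSucc_succ j := by
    apply NatTrans.ext
    funext V
    exact (H V).toSimplicialObjectHomotopy.h_succ_comp_δ_castSucc_succ j
  h_castSucc_comp_δ_succ_of_lt i j hij := by
    apply NatTrans.ext
    funext V
    exact (H V).toSimplicialObjectHomotopy.h_castSucc_comp_δ_succ_of_lt i j hij
  h_comp_σ_castSucc_of_le i j hij := by
    apply NatTrans.ext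
    funext V
    exact (H V).toSimplicialObjectHomotopy.h_comp_σ_castSucc_of_le i j hij
  h_comp_σ_succ_of_lt i j hij := by
    apply NatTrans.ext
    funext V
    exact (H V).toSimplicialObjectHomotopy.h_comp_σ_succ_of_lt i j hij

end pointwise

end Groth.Agent.Topos.H566.HomotopyLift
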