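import Groth.Agent.CohtopB.LocTriv
import Mathlib.AlgebraicTopology.SimplicialSet.Skeleton
import Mathlib.AlgebraicTopology.SimplicialSet.Finite

/-!
# Local extension of maps into locally fillable simplicial presheaves

`F : Aᵒᵖ ⥤ SSet` is locally fillable if every map `∂Δ[n] ⟶ F(V)` extends to `Δ[n]` locally on `V`.
Then every map `S ⟶ F(V)` extends locally on `V` along any monomorphism `S ⟶ T` with `T` finite.
-/

set_option autoImplicit false

universe u v w

open CategoryTheory CategoryTheory.Limits Opposite Simplicial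

namespace Groth.Agent.Topos.H566.LocExt

open Groth.Agent.CohtopB.LocTriv

variable {A : Type v} [Category.{w} A]

/-- Maps from boundaries of simplices extend locally. -/
def LocFill (J : GrothendieckTopology A) (F : Aᵒᵖ ⥤ SSet.{u}) : Prop :=
  ∀ (n : ℕ) (V : A) (φ : (∂Δ[n] : SSet.{u}) ⟶ F.obj (op V)),
    Loc J V (fun W g => ∃ ψ : Δ[n] ⟶ F.obj (op W), ∂Δ[n].ι ≫ ψ = φ ≫ F.map g.op)

variable {J : GrothendieckTopology A} {F : Aᵒᵖ ⥤ SSet.{u}}

open SSet SSet.relativeCellComplexOfMono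

theorem step (hF : LocFill J F) {S T : SSet.{u}} (i : S ⟶ T) [T.Finite] (d : ℕ) (V : A)
    (φ : (skeletonOfMono i d : SSet.{u}) ⟶ F.obj (op V)) :
    Loc J V (fun W g => ∃ ψ : (skeletonOfMono i (d + 1) : SSet.{u}) ⟶ F.obj (op W),
      r i d ≫ ψ = φ ≫ F.map g.op) := by
  have hfin : Finite (Cell i d) := Finite.of_injective
    (fun c : Cell i d => (⟨c.simplex, c.nonDegenerate⟩ : T.nonDegenerate d)) (fun c c' h => by
      ext
      exact Subtype.ext_iff.1 h)
  have h1 := Loc.finite_forall (J := J) (V := V) (s := (Set.univ : Set (Cell i d)))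
    (P := fun c W g => ∃ ψ : Δ[d] ⟶ F.obj (op W), ∂Δ[d].ι ≫ ψ = (c.ιSigmaBoundary ≫ t i d ≫ φ) ≫ F.map g.op)
    Set.finite_univ (fun c _ => hF d V _)
  refine h1.mono fun W g h2 => ?_
  have h3 : ∀ c : Cell i d, ∃ ψ : Δ[d] ⟶ F.obj (op W),
      ∂Δ[d].ι ≫ ψ = (c.ιSigmaBoundary ≫ t i d ≫ φ) ≫ F.map g.op := fun c => h2 c (Set.mem_univ c)
  choose ψ hψ using h3
  refine ⟨(isPushout i d).desc (φ ≫ F.map g.op) (Sigma.desc ψ) ?_, (isPushout i d).inl_desc _ _ _⟩
  refine Sigma.hom_ext _ _ fun c => ?_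
  have h4 := c.ι_l
  rw [reassoc_of% h4, Sigma.ι_desc, hψ]
  simp only [Category.assoc]

lemma range_le {S T : SSet.{u}} (i : S ⟶ T) (d : ℕ) : Subcomplex.range i ≤ skeletonOfMono i d :=
  le_sup_left

/-- The map to the relative skeleton. -/
def toSk {S T : SSet.{u}} (i : S ⟶ T) (d : ℕ) : S ⟶ (skeletonOfMono i d : SSet.{u}) :=
  Subcomplex.lift i (range_le i d)

lemma toSk_ι {S T : SSet.{u}} (i : S ⟶ T) (d : ℕ) : toSk i d ≫ (skeletonOfMono i d).ι = i := rfl

lemma toSk_r {S T : SSet.{u}} (i : S ⟶ T) (d : ℕ) : toSk i d ≫ r i d = toSk i (d + 1) := rfl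

theorem exists_skeleton (hF : LocFill J F) {S T : SSet.{u}} (i : S ⟶ T) [Mono i] [T.Finite] (d : ℕ)
    (V : A) (φ : S ⟶ F.obj (op V)) :
    Loc J V (fun W g => ∃ ψ : (skeletonOfMono i d : SSet.{u}) ⟶ F.obj (op W),
      toSk i d ≫ ψ = φ ≫ F.map g.op) := by
  induction d with
  | zero =>
    refine Loc.of_forall fun W g => ?_
    let e : (skeletonOfMono i 0 : SSet.{u}) ≅ S :=
      Subcomplex.eqToIso (by simp) ≪≫ (asIso (Subcomplex.toRange i)).symm
    refine ⟨e.hom ≫ φ ≫ F.map g.op, ?_⟩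
    have : toSk i 0 ≫ e.hom = 𝟙 _ := by
      rw [← cancel_mono e.inv, Category.assoc, Iso.hom_inv_id, Category.comp_id, Category.id_comp]
      rfl
    rw [reassoc_of% this]
  | succ d ih =>
    refine ih.bind fun W g hg => ?_
    obtain ⟨ψ, hψ⟩ := hg
    refine (step hF i d W ψ).mono fun W' g' hg' => ?_
    obtain ⟨ψ', hψ'⟩ := hg'
    refine ⟨ψ', ?_⟩
    rw [← toSk_r, Category.assoc, hψ', ← Category.assoc, hψ, Category.assoc, ← F.map_comp, ← op_comp]

/-- Local extension along a monomorphism with finite target. -/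
theorem LocFill.extend (hF : LocFill J F) {S T : SSet.{u}} (i : S ⟶ T) [Mono i] [T.Finite]
    (V : A) (φ : S ⟶ F.obj (op V)) :
    Loc J V (fun W g => ∃ ψ : T ⟶ F.obj (op W), i ≫ ψ = φ ≫ F.map g.op) := by
  obtain ⟨d, hd⟩ := T.hasDimensionLT_of_finite
  refine (exists_skeleton hF i d V φ).mono fun W g hg => ?_
  obtain ⟨ψ, hψ⟩ := hg
  have htop : skeletonOfMono i d = ⊤ := by
    rw [Subcomplex.eq_top_iff_contains_nonDegenerate]
    intro n x hx
    have hn : n < d := dim_lt_of_nonDegenerate (X := T) ⟨x, hx⟩ d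
    rw [skeletonOfMono_obj_eq_top i hn]
    trivial
  refine ⟨(Subcomplex.topIso T).inv ≫ (Subcomplex.eqToIso htop.symm).hom ≫ ψ, ?_⟩
  rw [← hψ]
  rfl

end Groth.Agent.Topos.H566.LocExt
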