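import Groth.Agent.Topos.H566.PathObj

/-!
# The path object of locally fillable simplicial presheaves is locally fillable
-/

set_option autoImplicit false

universe u v w

open CategoryTheory CategoryTheory.Limits Opposite Simplicial MonoidalCategory

namespace Groth.Agent.Topos.H566.PathFill

open Groth.Agent.CohtopB.LocTriv Groth.Agent.Topos.H566.LocExt Groth.Agent.Topos.H566.SecFill
open Groth.Agent.Topos.H566.PathObj

section glue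

open SSet

lemma ι₀_ne_ι₁ {X : SSet.{u}} {m : SimplexCategoryᵒᵖ} (s : X.obj m) :
    (ι₀ : X ⟶ X ⊗ Δ[1]).app m s ≠ (ι₁ : X ⟶ X ⊗ Δ[1]).app m s := by
  intro h
  have h1 := congrArg Prod.snd h
  obtain ⟨m⟩ := m
  obtain ⟨m, rfl⟩ : ∃ k : ℕ, m = ⦋k⦌ := ⟨m.len, (SimplexCategory.mk_len m).symm⟩
  have h2 := congrArg (fun z : (Δ[1] : SSet.{u}) _⦋m⦌ => z 0) h1
  have h3 : (0 : Fin 2) = 1 := h2
  exact absurd h3 (by decide)

lemma eq_of_mem_boundary {X : SSet.{u}} {m : SimplexCategoryᵒᵖ} (s : X.obj m) (t : (Δ[1] : SSet.{u}).obj m)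
    (ht : t ∈ (∂Δ[1] : (Δ[1] : SSet.{u}).Subcomplex).obj m) :
    (ι₀ : X ⟶ X ⊗ Δ[1]).app m s = ((s, t) : (X ⊗ Δ[1] : SSet.{u}).obj m) ∨
      (ι₁ : X ⟶ X ⊗ Δ[1]).app m s = ((s, t) : (X ⊗ Δ[1] : SSet.{u}).obj m) := by
  obtain ⟨m⟩ := m
  obtain ⟨m, rfl⟩ : ∃ k : ℕ, m = ⦋k⦌ := ⟨m.len, (SimplexCategory.mk_len m).symm⟩
  rw [mem_boundary_iff_notMem_range] at ht
  obtain ⟨j, hj⟩ := ht
  have hj' : ∀ k, t k ≠ j := fun k hk => hj ⟨k, hk⟩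
  fin_cases j
  · right
    refine Prod.ext rfl ?_
    ext k : 1
    have h1 := hj' k
    have h2 : t k = 1 := by
      generalize t k = z at h1
      fin_cases z
      · exact absurd rfl h1
      · rfl
    exact h2.symm
  · left
    refine Prod.ext rfl ?_
    ext k : 1
    have h1 := hj' k
    have h2 : t k = 0 := by
      generalize t k = z at h1
      fin_cases z
      · rfl
      · exact absurd rfl h1
    exact h2.symm

/-- Gluing a homotopy on `S ⊗ Δ[1]` with its ends on `T`. -/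
theorem exists_glue {T Y : SSet.{u}} (S : T.Subcomplex) (H : (S : SSet.{u}) ⊗ Δ[1] ⟶ Y) (y₀ y₁ : T ⟶ Y)
    (h₀ : ι₀ ≫ H = S.ι ≫ y₀) (h₁ : ι₁ ≫ H = S.ι ≫ y₁) :
    ∃ φ : (S.unionProd ∂Δ[1] : SSet.{u}) ⟶ Y,
      (∀ m (s : S.obj m) (t : (Δ[1] : SSet.{u}).obj m) (hm : ((s.1, t) : (T ⊗ Δ[1] : SSet.{u}).obj m) ∈
        (S.unionProd ∂Δ[1]).obj m), φ.app m ⟨_, hm⟩ = H.app m ((s, t) : ((S : SSet.{u}) ⊗ Δ[1] : SSet.{u}).obj m)) ∧
      (∀ m (s : T.obj m) (hm : (ι₀ : T ⟶ T ⊗ Δ[1]).app m s ∈ (S.unionProd ∂Δ[1]).obj m),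
        φ.app m ⟨_, hm⟩ = y₀.app m s) ∧
      (∀ m (s : T.obj m) (hm : (ι₁ : T ⟶ T ⊗ Δ[1]).app m s ∈ (S.unionProd ∂Δ[1]).obj m),
        φ.app m ⟨_, hm⟩ = y₁.app m s) := by
  have e₀ : ∀ (m : SimplexCategoryᵒᵖ) (s : S.obj m), H.app m (ι₀.app m s) = y₀.app m s.1 :=
    fun m s => ConcreteCategory.congr_hom (NatTrans.congr_app h₀ m) s
  have e₁ : ∀ (m : SimplexCategoryᵒᵖ) (s : S.obj m), H.app m (ι₁.app m s) = y₁.app m s.1 :=
    fun m s => ConcreteCategory.congr_hom (NatTrans.congr_app h₁ m) s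
  let R : ∀ m : SimplexCategoryᵒᵖ, (T ⊗ Δ[1] : SSet.{u}).obj m → Y.obj m → Prop := fun m p z =>
    (∃ hs : p.1 ∈ S.obj m, z = H.app m ((⟨p.1, hs⟩, p.2) : ((S : SSet.{u}) ⊗ Δ[1] : SSet.{u}).obj m)) ∨
    ((ι₀ : T ⟶ T ⊗ Δ[1]).app m p.1 = p ∧ z = y₀.app m p.1) ∨
    ((ι₁ : T ⟶ T ⊗ Δ[1]).app m p.1 = p ∧ z = y₁.app m p.1)
  have hex : ∀ m p, p ∈ (S.unionProd ∂Δ[1]).obj m → ∃ z, R m p z := by
    rintro m ⟨s, t⟩ hm
    replace hm : t ∈ (∂Δ[1] : (Δ[1] : SSet.{u}).Subcomplex).obj m ∨ s ∈ S.obj m :=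
      (Subcomplex.mem_unionProd_iff S ∂Δ[1] _).1 hm
    rcases hm with hm | hm
    · rcases eq_of_mem_boundary s t hm with h | h
      · exact ⟨_, Or.inr (Or.inl ⟨h, rfl⟩)⟩
      · exact ⟨_, Or.inr (Or.inr ⟨h, rfl⟩)⟩
    · exact ⟨_, Or.inl ⟨hm, rfl⟩⟩
  have huniq : ∀ m p z z', R m p z → R m p z' → z = z' := by
    rintro m ⟨s, t⟩ z z' h h'
    have k₀ : ∀ hs : s ∈ S.obj m, (ι₀ : T ⟶ T ⊗ Δ[1]).app m s = ((s, t) : (T ⊗ Δ[1] : SSet.{u}).obj m) →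
        H.app m ((⟨s, hs⟩, t) : ((S : SSet.{u}) ⊗ Δ[1] : SSet.{u}).obj m) = y₀.app m s := by
      intro hs h
      rw [← e₀ m ⟨s, hs⟩]
      congr 1
      exact Prod.ext rfl (congrArg Prod.snd h).symm
    have k₁ : ∀ hs : s ∈ S.obj m, (ι₁ : T ⟶ T ⊗ Δ[1]).app m s = ((s, t) : (T ⊗ Δ[1] : SSet.{u}).obj m) →
        H.app m ((⟨s, hs⟩, t) : ((S : SSet.{u}) ⊗ Δ[1] : SSet.{u}).obj m) = y₁.app m s := by
      intro hs h
      rw [← e₁ m ⟨s, hs⟩]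
      congr 1
      exact Prod.ext rfl (congrArg Prod.snd h).symm
    rcases h with ⟨hs, rfl⟩ | ⟨h, rfl⟩ | ⟨h, rfl⟩ <;> rcases h' with ⟨hs', rfl⟩ | ⟨h', rfl⟩ | ⟨h', rfl⟩
    · rfl
    · exact k₀ hs h'
    · exact k₁ hs h'
    · exact (k₀ hs' h).symm
    · rfl
    · exact absurd (h.trans h'.symm) (ι₀_ne_ι₁ s)
    · exact (k₁ hs' h).symm
    · exact absurd (h'.trans h.symm) (ι₀_ne_ι₁ s)
    · rfl
  have hmap : ∀ {m m' : SimplexCategoryᵒᵖ} (θ : m ⟶ m') p z, R m p z →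
      R m' ((T ⊗ Δ[1] : SSet.{u}).map θ p) (Y.map θ z) := by
    rintro m m' θ ⟨s, t⟩ z h
    rcases h with ⟨hs, rfl⟩ | ⟨h, rfl⟩ | ⟨h, rfl⟩
    · refine Or.inl ⟨S.map θ hs, ?_⟩
      exact (ConcreteCategory.congr_hom (H.naturality θ)
        ((⟨s, hs⟩, t) : ((S : SSet.{u}) ⊗ Δ[1] : SSet.{u}).obj m)).symm
    · refine Or.inr (Or.inl ⟨?_, ?_⟩)
      · have h1 := ConcreteCategory.congr_hom ((ι₀ : T ⟶ T ⊗ Δ[1]).naturality θ) s
        refine Eq.trans h1 (congrArg ((T ⊗ Δ[1] : SSet.{u}).map θ) h)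
      · exact (ConcreteCategory.congr_hom (y₀.naturality θ) s).symm
    · refine Or.inr (Or.inr ⟨?_, ?_⟩)
      · have h1 := ConcreteCategory.congr_hom ((ι₁ : T ⟶ T ⊗ Δ[1]).naturality θ) s
        refine Eq.trans h1 (congrArg ((T ⊗ Δ[1] : SSet.{u}).map θ) h)
      · exact (ConcreteCategory.congr_hom (y₁.naturality θ) s).symm
  obtain ⟨φ, hφ⟩ := exists_hom_of_rel (S.unionProd ∂Δ[1]) R hex huniq hmap
  refine ⟨φ, ?_, ?_, ?_⟩
  · intro m s t hm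
    exact hφ m _ _ (Or.inl ⟨s.2, rfl⟩)
  · intro m s hm
    exact hφ m _ _ (Or.inr (Or.inl ⟨rfl, rfl⟩))
  · intro m s hm
    exact hφ m _ _ (Or.inr (Or.inr ⟨rfl, rfl⟩))

end glue

variable {A : Type v} [Category.{w} A] {K L : Aᵒᵖ ⥤ SSet.{u}} (a b : K ⟶ L) {J : GrothendieckTopology A}

/-- The path object of locally fillable simplicial presheaves is locally fillable. -/
theorem locFill_PthS (hK : LocFill J K) (hL : LocFill J L) : LocFill J (PthS a b) := by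
  intro n V φ
  let p' : PD a b (∂Δ[n] : SSet.{u}) (op V) := toPair φ
  refine (hK n V p'.x).bind fun W g hg => ?_
  obtain ⟨x, hx⟩ := hg
  let q : PD a b (∂Δ[n] : SSet.{u}) (op W) := p'.res g.op
  have hqx : q.x = ∂Δ[n].ι ≫ x := hx.symm
  obtain ⟨H', hH1, hH2, hH3⟩ := exists_glue ∂Δ[n] q.H (x ≫ a.app (op W)) (x ≫ b.app (op W))
    (by rw [q.h₀, hqx, Category.assoc]) (by rw [q.h₁, hqx, Category.assoc])
  refine (hL.extend (SSet.Subcomplex.unionProd (∂Δ[n] : (Δ[n] : SSet.{u}).Subcomplex) ∂Δ[1]).ι W H').mono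
    fun W' g' hg' => ?_
  obtain ⟨H, hH⟩ := hg'
  have hH' : ∀ (m : SimplexCategoryᵒᵖ) (z : (Δ[n] ⊗ Δ[1] : SSet.{u}).obj m)
      (hz : z ∈ (SSet.Subcomplex.unionProd (∂Δ[n] : (Δ[n] : SSet.{u}).Subcomplex) ∂Δ[1]).obj m),
      H.app m z = (L.map g'.op).app m (H'.app m ⟨z, hz⟩) := fun m z hz =>
    ConcreteCategory.congr_hom (NatTrans.congr_app hH m) ⟨z, hz⟩
  have hmem₀ : ∀ (m : SimplexCategoryᵒᵖ) (s : (Δ[n] : SSet.{u}).obj m),
      (SSet.ι₀ : Δ[n] ⟶ Δ[n] ⊗ Δ[1]).app m s ∈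
        (SSet.Subcomplex.unionProd (∂Δ[n] : (Δ[n] : SSet.{u}).Subcomplex) ∂Δ[1]).obj m := by
    intro m s
    refine (SSet.Subcomplex.mem_unionProd_iff _ _ _).2 (Or.inl ?_)
    intro hs
    obtain ⟨k, hk⟩ := hs 1
    exact absurd (show (0 : Fin 2) = 1 from hk) (by decide)
  have hmem₁ : ∀ (m : SimplexCategoryᵒᵖ) (s : (Δ[n] : SSet.{u}).obj m),
      (SSet.ι₁ : Δ[n] ⟶ Δ[n] ⊗ Δ[1]).app m s ∈
        (SSet.Subcomplex.unionProd (∂Δ[n] : (Δ[n] : SSet.{u}).Subcomplex) ∂Δ[1]).obj m := by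
    intro m s
    refine (SSet.Subcomplex.mem_unionProd_iff _ _ _).2 (Or.inl ?_)
    intro hs
    obtain ⟨k, hk⟩ := hs 0
    exact absurd (show (1 : Fin 2) = 0 from hk) (by decide)
  let p : PD a b (Δ[n] : SSet.{u}) (op W') :=
    { x := x ≫ K.map g'.op
      H := H
      h₀ := by
        rw [Category.assoc, a.naturality]
        ext m s
        exact (hH' m _ (hmem₀ m s)).trans (congrArg ((L.map g'.op).app m) (hH2 m s (hmem₀ m s)))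
      h₁ := by
        rw [Category.assoc, b.naturality]
        ext m s
        exact (hH' m _ (hmem₁ m s)).trans (congrArg ((L.map g'.op).app m) (hH3 m s (hmem₁ m s))) }
  refine ⟨ofPair p, toPair_injective ?_⟩
  rw [toPair_comp, toPair_ofPair, op_comp, Functor.map_comp, ← Category.assoc, toPair_res, toPair_res]
  apply PD.ext
  · change ∂Δ[n].ι ≫ x ≫ K.map g'.op = q.x ≫ K.map g'.op
    rw [hqx, Category.assoc]
  · ext m z
    obtain ⟨s, t⟩ := z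
    have hm : ((s.1, t) : (Δ[n] ⊗ Δ[1] : SSet.{u}).obj m) ∈
        (SSet.Subcomplex.unionProd (∂Δ[n] : (Δ[n] : SSet.{u}).Subcomplex) ∂Δ[1]).obj m :=
      (SSet.Subcomplex.mem_unionProd_iff _ _ _).2 (Or.inr s.2)
    exact (hH' m _ hm).trans (congrArg ((L.map g'.op).app m) (hH1 m s t hm))

end Groth.Agent.Topos.H566.PathFill
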