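import Groth.Agent.Topos.H566.LocExt
import Groth.Agent.Topos.H567.Refine
import Groth.Agent.CohtopB.HypSec

/-!
# Hypercoverings and locally fillable simplicial presheaves

`secS K : Aᵒᵖ ⥤ SSet` is the simplicial presheaf of sections of a simplicial object `K` of
`FormalCoproduct A`.  `K` is a hypercovering iff `secS K` is locally fillable.
-/

set_option autoImplicit false

universe u v w

open CategoryTheory CategoryTheory.Limits Opposite Simplicial

namespace Groth.Agent.Topos.H566.SecFill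

open Groth.Agent.CohtopB.LocTriv Groth.Agent.CohtopB Groth.Agent.Topos.H566.LocExt
open Groth.Agent.CohtopB.HyperTens (Compat fillSieve)
open Groth.Agent.CohtopB.HyperExist (homSieve)

section rel

open SSet

/-- A map out of a subcomplex from a functional relation compatible with the simplicial operators. -/
theorem exists_hom_of_rel {X Y : SSet.{u}} (B : X.Subcomplex)
    (R : ∀ n : SimplexCategoryᵒᵖ, X.obj n → Y.obj n → Prop)
    (hex : ∀ n x, x ∈ B.obj n → ∃ y, R n x y)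
    (huniq : ∀ n x y y', R n x y → R n x y' → y = y')
    (hmap : ∀ {n m : SimplexCategoryᵒᵖ} (θ : n ⟶ m) x y, R n x y → R m (X.map θ x) (Y.map θ y)) :
    ∃ φ : (B : SSet.{u}) ⟶ Y, ∀ n (x : B.obj n) y, R n x.1 y → φ.app n x = y := by
  choose f hf using hex
  refine ⟨{ app := fun n => ↾fun x : B.obj n => f n x.1 x.2, naturality := ?_ }, ?_⟩
  · intro n m θ
    ext x
    exact huniq m _ _ _ (hf m _ _) (hmap θ _ _ (hf n x.1 x.2))
  · intro n x y h
    exact huniq n _ _ _ (hf n _ _) h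

end rel

variable {A : Type u} [SmallCategory A]

/-- The simplicial presheaf of sections. -/
abbrev secS (K : SimplicialObject (FormalCoproduct.{u} A)) : Aᵒᵖ ⥤ SSet.{u} :=
  (K ⋙ HypSec.secFunctor A).flip

section

variable (K : SimplicialObject (FormalCoproduct.{u} A))

/-- The family of facets of a boundary. -/
def facets {n : ℕ} {V : A} (φ : (∂Δ[n + 1] : SSet.{u}) ⟶ (secS K).obj (op V)) (i : Fin (n + 2)) :
    (FormalCoproduct.incl A).obj V ⟶ K.obj (op ⦋n⦌) :=
  SSet.yonedaEquiv (SSet.boundary.ι i ≫ φ)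

lemma facets_map {n : ℕ} {V : A} (φ : (∂Δ[n + 1] : SSet.{u}) ⟶ (secS K).obj (op V)) (i : Fin (n + 2))
    {m : ℕ} (β : ⦋m⦌ ⟶ ⦋n⦌) : facets K φ i ≫ K.map β.op =
      SSet.yonedaEquiv (SSet.stdSimplex.map β ≫ SSet.boundary.ι i ≫ φ) :=
  SSet.yonedaEquiv_naturality β (SSet.boundary.ι i ≫ φ)

lemma compat_facets {n : ℕ} {V : A} (φ : (∂Δ[n + 1] : SSet.{u}) ⟶ (secS K).obj (op V)) :
    Compat K (facets K φ) := by
  intro i j m _ β β' h
  rw [facets_map, facets_map]
  congr 1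
  rw [← Category.assoc, ← Category.assoc]
  congr 1
  rw [← cancel_mono (SSet.Subcomplex.ι _)]
  rw [Category.assoc, Category.assoc, SSet.boundary.ι_ι, SSet.boundary.ι_ι]
  change SSet.stdSimplex.map β ≫ SSet.stdSimplex.map (SimplexCategory.δ i) =
    SSet.stdSimplex.map β' ≫ SSet.stdSimplex.map (SimplexCategory.δ j)
  rw [← SSet.stdSimplex.map_comp, ← SSet.stdSimplex.map_comp, h]

/-- A compatible family of facets comes from a boundary. -/
theorem exists_of_compat {n : ℕ} {V : A}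
    (y : Fin (n + 2) → ((FormalCoproduct.incl A).obj V ⟶ K.obj (op ⦋n⦌))) (hy : Compat K y) :
    ∃ φ : (∂Δ[n + 1] : SSet.{u}) ⟶ (secS K).obj (op V), ∀ i, facets K φ i = y i := by
  let R : ∀ m : SimplexCategoryᵒᵖ, (Δ[n + 1] : SSet.{u}).obj m → ((secS K).obj (op V)).obj m → Prop :=
    fun m σ z => ∃ (i : Fin (n + 2)) (β : m.unop ⟶ ⦋n⦌),
      σ = SSet.stdSimplex.objEquiv.symm (β ≫ SimplexCategory.δ i) ∧ z = y i ≫ K.map β.op
  have hex : ∀ m σ, σ ∈ (∂Δ[n + 1] : (Δ[n + 1] : SSet.{u}).Subcomplex).obj m → ∃ z, R m σ z := by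
    rintro ⟨m⟩ σ hσ
    obtain ⟨f, rfl⟩ := SSet.stdSimplex.objEquiv.symm.surjective σ
    obtain ⟨m, rfl⟩ : ∃ k : ℕ, m = ⦋k⦌ := ⟨m.len, (SimplexCategory.mk_len m).symm⟩
    obtain ⟨i, q, rfl⟩ := SimplexCategory.eq_comp_δ_of_not_surjective f hσ
    exact ⟨_, i, q, rfl, rfl⟩
  have huniq : ∀ m σ z z', R m σ z → R m σ z' → z = z' := by
    rintro ⟨m⟩ σ z z' ⟨i, β, rfl, rfl⟩ ⟨j, β', h, rfl⟩
    obtain ⟨m, rfl⟩ : ∃ k : ℕ, m = ⦋k⦌ := ⟨m.len, (SimplexCategory.mk_len m).symm⟩
    exact Groth.Agent.Topos.H567.Refine.compat_all hy i j m β β'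
      (SSet.stdSimplex.objEquiv.symm.injective h)
  obtain ⟨φ, hφ⟩ := exists_hom_of_rel ∂Δ[n + 1] R hex huniq (by
    rintro ⟨m⟩ ⟨m'⟩ θ σ z ⟨i, β, rfl, rfl⟩
    refine ⟨i, θ.unop ≫ β, rfl, ?_⟩
    rw [op_comp, K.map_comp]
    exact Category.assoc (y i) (K.map β.op) (K.map θ))
  refine ⟨φ, fun i => ?_⟩
  refine hφ _ _ _ ⟨i, 𝟙 _, rfl, ?_⟩
  rw [op_id, K.map_id, Category.comp_id]

variable (J : GrothendieckTopology A)

theorem locFill_iff : ((∀ T : A, homSieve T (K.obj (op ⦋0⦌)) ∈ J T) ∧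
      ∀ (n : ℕ) (T : A) (y : Fin (n + 2) → ((FormalCoproduct.incl A).obj T ⟶ K.obj (op ⦋n⦌))),
        Compat K y → fillSieve y ∈ J T) ↔ LocFill J (secS K) := by
  constructor
  · rintro ⟨h0, h1⟩ n V φ
    cases n with
    | zero =>
      refine ⟨_, h0 V, ?_⟩
      rintro W g ⟨x⟩
      exact ⟨SSet.yonedaEquiv.symm x, SSet.boundary.hom_ext₀⟩
    | succ n =>
      refine ⟨_, h1 n V _ (compat_facets K φ), ?_⟩
      rintro W g ⟨x, hx⟩
      refine ⟨SSet.yonedaEquiv.symm x, SSet.boundary.hom_ext fun i => ?_⟩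
      rw [SSet.boundary.ι_ι_assoc, SSet.stdSimplex.δ_comp_yonedaEquiv_symm]
      apply SSet.yonedaEquiv.injective
      rw [Equiv.apply_symm_apply]
      exact hx i
  · intro h
    refine ⟨fun T => ?_, fun n T y hy => ?_⟩
    · obtain ⟨S, hS, H⟩ := h 0 T ((SSet.Subcomplex.eqToIso SSet.boundary_zero).hom ≫
        SSet.Subcomplex.isInitialBot.to _)
      refine J.superset_covering ?_ hS
      intro W g hg
      obtain ⟨ψ, -⟩ := H g hg
      exact ⟨SSet.yonedaEquiv ψ⟩
    · obtain ⟨φ, hφ⟩ := exists_of_compat K y hy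
      obtain ⟨S, hS, H⟩ := h (n + 1) T φ
      refine J.superset_covering ?_ hS
      intro W g hg
      obtain ⟨ψ, hψ⟩ := H g hg
      refine ⟨SSet.yonedaEquiv ψ, fun i => ?_⟩
      rw [← hφ]
      have h2 : SSet.yonedaEquiv (SSet.boundary.ι i ≫ ∂Δ[n + 1].ι ≫ ψ) =
        SSet.yonedaEquiv (SSet.boundary.ι i ≫ φ ≫ (secS K).map g.op) := by rw [hψ]
      rw [SSet.boundary.ι_ι_assoc, SSet.stdSimplex.yonedaEquiv_δ_comp] at h2
      exact h2

end

section

variable {C : Type u} [SmallCategory C] (J : GrothendieckTopology C) (X : C)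

/-- A simplicial semi-representable object over `X` is a hypercovering iff its simplicial presheaf of sections
is locally fillable. -/
theorem isHypercovering_iff (K : SimplicialObject (FormalCoproduct.{u} (Over X)))
    [∀ (n : ℕ) (F : (SimplexCategory.Truncated n)ᵒᵖ ⥤ FormalCoproduct.{u} (Over X)),
      (SimplexCategory.Truncated.inclusion n).op.HasRightKanExtension F] :
    Hyper.IsHypercovering J X K ↔ LocFill (J.over X) (secS K) :=
  (Groth.Agent.Topos.H567.Fill.isHypercovering_iff_fill J X K).trans (locFill_iff K (J.over X))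

end

end Groth.Agent.Topos.H566.SecFill
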