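import Groth.Agent.Topos.H566.LocExt
import Groth.Agent.Topos.H566.SecFill
import Mathlib.AlgebraicTopology.SimplicialSet.Homotopy
import Mathlib.AlgebraicTopology.SimplicialSet.FiniteProd

/-!
# The path object of two morphisms of simplicial presheaves

For `a b : K ⟶ L` morphisms of simplicial presheaves, `PthS a b` is the simplicial presheaf of pairs
`(x, H)` with `x : Δ[n] ⟶ K(V)` and `H : Δ[n] ⊗ Δ[1] ⟶ L(V)` a homotopy from `x ≫ a` to `x ≫ b`.
If `K` and `L` are locally fillable, so is `PthS a b`.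
-/

set_option autoImplicit false

universe u v w

open CategoryTheory CategoryTheory.Limits Opposite Simplicial MonoidalCategory

namespace Groth.Agent.Topos.H566.PathObj

open Groth.Agent.CohtopB.LocTriv Groth.Agent.Topos.H566.LocExt

variable {A : Type v} [Category.{w} A] {K L : Aᵒᵖ ⥤ SSet.{u}} (a b : K ⟶ L)

/-- Homotopies between `x ≫ a` and `x ≫ b`, `x : T ⟶ K(V)`. -/
@[ext]
structure PD (T : SSet.{u}) (V : Aᵒᵖ) where
  /-- the map to `K(V)` -/
  x : T ⟶ K.obj V
  /-- the homotopy -/
  H : T ⊗ Δ[1] ⟶ L.obj V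
  h₀ : SSet.ι₀ ≫ H = x ≫ a.app V
  h₁ : SSet.ι₁ ≫ H = x ≫ b.app V

variable {a b}

/-- restriction along a map of simplicial sets -/
@[simps]
def PD.pre {T T' : SSet.{u}} (f : T ⟶ T') {V : Aᵒᵖ} (p : PD a b T' V) : PD a b T V where
  x := f ≫ p.x
  H := (f ▷ Δ[1]) ≫ p.H
  h₀ := by rw [SSet.ι₀_comp_assoc, p.h₀, Category.assoc]
  h₁ := by rw [SSet.ι₁_comp_assoc, p.h₁, Category.assoc]

/-- restriction along a map of the site -/
@[simps]
def PD.res {T : SSet.{u}} {V W : Aᵒᵖ} (g : V ⟶ W) (p : PD a b T V) : PD a b T W where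
  x := p.x ≫ K.map g
  H := p.H ≫ L.map g
  h₀ := by rw [reassoc_of% p.h₀, Category.assoc, a.naturality]
  h₁ := by rw [reassoc_of% p.h₁, Category.assoc, b.naturality]

variable (a b)

/-- the presheaf of homotopies of shape `T`, contravariant in `T` -/
@[simps]
def Pth : SSet.{u}ᵒᵖ ⥤ (Aᵒᵖ ⥤ Type u) where
  obj T :=
    { obj := fun V => PD a b T.unop V
      map := fun g => ↾(PD.res g)
      map_id := fun V => by
        ext p
        · simp
        · simp
      map_comp := fun g h => by
        ext p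
        · simp
        · simp }
  map f :=
    { app := fun V => ↾(PD.pre f.unop)
      naturality := fun V W g => by
        ext p
        · simp
        · simp }
  map_id T := by
    ext V p
    · simp
    · simp
  map_comp f g := by
    ext V p
    · simp
    · simp

/-- the path object, as a simplicial object in presheaves -/
abbrev PthF : SimplexCategoryᵒᵖ ⥤ (Aᵒᵖ ⥤ Type u) := SSet.stdSimplex.op ⋙ Pth a b

/-- the path object, as a presheaf of simplicial sets -/
abbrev PthS : Aᵒᵖ ⥤ SSet.{u} := (PthF a b).flip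

variable {a b}

/-- the identity simplex -/
abbrev idS (m : SimplexCategory) : (SSet.stdSimplex.{u}.obj m).obj (op m) :=
  SSet.stdSimplex.objEquiv.symm (𝟙 m)

lemma map_idS {m m' : SimplexCategory} (θ : m' ⟶ m) :
    (SSet.stdSimplex.{u}.obj m).map θ.op (idS m) = (SSet.stdSimplex.{u}.map θ).app (op m') (idS m') := rfl

lemma symm_app_idS {X : SSet.{u}} {m : SimplexCategory} (t : X.obj (op m)) :
    (SSet.yonedaEquiv.symm t).app (op m) (idS m) = t :=
  SSet.yonedaEquiv.apply_symm_apply t

/-- a map to the path object defines a homotopy -/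
def toPair {T : SSet.{u}} {V : Aᵒᵖ} (φ : T ⟶ (PthS a b).obj V) : PD a b T V where
  x :=
    { app := fun m => ↾fun t => (PD.x (φ.app m t : PD a b (SSet.stdSimplex.obj m.unop) V)).app m (idS m.unop)
      naturality := fun m m' θ => by
        ext t
        have h1 : φ.app m' (T.map θ t) = PD.pre (SSet.stdSimplex.map θ.unop)
          (φ.app m t : PD a b (SSet.stdSimplex.obj m.unop) V) :=
          ConcreteCategory.congr_hom (φ.naturality θ) t
        have h2 := ConcreteCategory.congr_hom
          ((PD.x (φ.app m t : PD a b (SSet.stdSimplex.obj m.unop) V)).naturality θ) (idS m.unop)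
        change (PD.x (φ.app m' (T.map θ t) : PD a b (SSet.stdSimplex.obj m'.unop) V)).app m' (idS m'.unop) = _
        rw [h1]
        exact h2 }
  H :=
    { app := fun m => ↾fun t => (PD.H (φ.app m t.1 : PD a b (SSet.stdSimplex.obj m.unop) V)).app m
        ((idS m.unop, t.2) : (SSet.stdSimplex.obj m.unop ⊗ Δ[1] : SSet.{u}).obj m)
      naturality := fun m m' θ => by
        ext t
        have h1 : φ.app m' (T.map θ t.1) = PD.pre (SSet.stdSimplex.map θ.unop)
          (φ.app m t.1 : PD a b (SSet.stdSimplex.obj m.unop) V) :=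
          ConcreteCategory.congr_hom (φ.naturality θ) t.1
        have h2 := ConcreteCategory.congr_hom
          ((PD.H (φ.app m t.1 : PD a b (SSet.stdSimplex.obj m.unop) V)).naturality θ)
          ((idS m.unop, t.2) : (SSet.stdSimplex.obj m.unop ⊗ Δ[1] : SSet.{u}).obj m)
        change (PD.H (φ.app m' (T.map θ t.1) : PD a b (SSet.stdSimplex.obj m'.unop) V)).app m'
          ((idS m'.unop, Δ[1].map θ t.2) : (SSet.stdSimplex.obj m'.unop ⊗ Δ[1] : SSet.{u}).obj m') = _
        rw [h1]
        exact h2 }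
  h₀ := by
    ext m t
    exact ConcreteCategory.congr_hom (NatTrans.congr_app (PD.h₀
      (φ.app m t : PD a b (SSet.stdSimplex.obj m.unop) V)) m) (idS m.unop)
  h₁ := by
    ext m t
    exact ConcreteCategory.congr_hom (NatTrans.congr_app (PD.h₁
      (φ.app m t : PD a b (SSet.stdSimplex.obj m.unop) V)) m) (idS m.unop)

/-- a homotopy defines a map to the path object -/
def ofPair {T : SSet.{u}} {V : Aᵒᵖ} (p : PD a b T V) : T ⟶ (PthS a b).obj V where
  app m := ↾fun t => p.pre (SSet.yonedaEquiv.symm t)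
  naturality m m' θ := by
    ext t
    change p.pre (SSet.yonedaEquiv.symm (T.map θ t)) =
      (p.pre (SSet.yonedaEquiv.symm t)).pre (SSet.stdSimplex.map θ.unop)
    have h : SSet.yonedaEquiv.symm (T.map θ t) = SSet.stdSimplex.map θ.unop ≫ SSet.yonedaEquiv.symm t :=
      (SSet.yonedaEquiv_symm_naturality_left θ.unop t).symm
    rw [h]
    apply PD.ext
    · simp
    · simp

lemma toPair_ofPair {T : SSet.{u}} {V : Aᵒᵖ} (p : PD a b T V) : toPair (ofPair p) = p := by
  apply PD.ext
  · ext m t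
    change p.x.app m ((SSet.yonedaEquiv.symm t).app m (idS m.unop)) = p.x.app m t
    congr 1
    exact symm_app_idS t
  · ext m t
    change p.H.app m (((SSet.yonedaEquiv.symm t.1).app m (idS m.unop), t.2) : (T ⊗ Δ[1] : SSet.{u}).obj m) =
      p.H.app m t
    congr 1
    exact Prod.ext (symm_app_idS t.1) rfl

lemma app_map {T : SSet.{u}} {V : Aᵒᵖ} (φ : T ⟶ (PthS a b).obj V) {m m' : SimplexCategoryᵒᵖ}
    (θ : m ⟶ m') (t : T.obj m) :
    φ.app m' (T.map θ t) = PD.pre (SSet.stdSimplex.map θ.unop)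
          (φ.app m t : PD a b (SSet.stdSimplex.obj m.unop) V) :=
  ConcreteCategory.congr_hom (φ.naturality θ) t

lemma ofPair_toPair {T : SSet.{u}} {V : Aᵒᵖ} (φ : T ⟶ (PthS a b).obj V) : ofPair (toPair φ) = φ := by
  ext m t
  change (toPair φ).pre (SSet.yonedaEquiv.symm t) = (φ.app m t : PD a b (SSet.stdSimplex.obj m.unop) V)
  apply PD.ext
  · apply SSet.yonedaEquiv.injective
    change (toPair φ).x.app m ((SSet.yonedaEquiv.symm t).app m (idS m.unop)) =
      (PD.x (φ.app m t : PD a b (SSet.stdSimplex.obj m.unop) V)).app m (idS m.unop)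
    rw [symm_app_idS]
    rfl
  · ext k t'
    obtain ⟨θ, t'⟩ := t'
    obtain ⟨θ, rfl⟩ := SSet.stdSimplex.objEquiv.symm.surjective θ
    change (PD.H (φ.app k (T.map θ.op t) : PD a b (SSet.stdSimplex.obj k.unop) V)).app k
        ((idS k.unop, t') : (SSet.stdSimplex.obj k.unop ⊗ Δ[1] : SSet.{u}).obj k) = _
    rw [app_map φ (m' := k) θ.op t]
    have h1 : (SSet.stdSimplex.{u}.map θ).app k (idS k.unop) = SSet.stdSimplex.objEquiv.symm θ := by
      change SSet.stdSimplex.objEquiv.symm (𝟙 _ ≫ θ) = _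
      rw [Category.id_comp]
    change (PD.H (φ.app m t : PD a b (SSet.stdSimplex.obj m.unop) V)).app k
      (((SSet.stdSimplex.{u}.map θ).app k (idS k.unop), t') :
        (SSet.stdSimplex.obj m.unop ⊗ Δ[1] : SSet.{u}).obj k) = _
    rw [h1]
    rfl

lemma toPair_injective {T : SSet.{u}} {V : Aᵒᵖ} {φ ψ : T ⟶ (PthS a b).obj V} (h : toPair φ = toPair ψ) :
    φ = ψ := by
  rw [← ofPair_toPair φ, ← ofPair_toPair ψ, h]

lemma toPair_comp {T T' : SSet.{u}} {V : Aᵒᵖ} (f : T ⟶ T') (φ : T' ⟶ (PthS a b).obj V) :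
    toPair (f ≫ φ) = (toPair φ).pre f := rfl

lemma toPair_res {T : SSet.{u}} {V W : Aᵒᵖ} (g : V ⟶ W) (φ : T ⟶ (PthS a b).obj V) :
    toPair (φ ≫ (PthS a b).map g) = (toPair φ).res g := rfl

end Groth.Agent.Topos.H566.PathObj
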